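import Groth.Agent.Lib.OX.ClosedPush
import Groth.Agent.Lib.QCoh.ClosedImmersion
import Groth.Agent.Lib.OX.LocFreeTensor
import Groth.Agent.Lib.OX.StalkTensor
import Groth.Prelude.Def_ModSite
import Mathlib.LinearAlgebra.TensorProduct.Associator
import Mathlib.AlgebraicGeometry.Morphisms.ClosedImmersion

/-! # Injectives from internal Homs out of a closed subscheme -/

set_option autoImplicit false
set_option maxHeartbeats 400000
set_option linter.style.haveILetI false
set_option backward.isDefEq.respectTransparency false

universe u

open CategoryTheory CategoryTheory.Limits AlgebraicGeometry MonoidalCategory TensorProduct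

namespace GrothLib.ClosedHom20

theorem rTensor_injective_of_surjective {R S : Type u} [CommRing R] [CommRing S] [Algebra R S]
    (hs : Function.Surjective (algebraMap R S)) {M N E : Type u} [AddCommGroup M] [AddCommGroup N]
    [AddCommGroup E] [Module R M] [Module R N] [Module R E] [Module S M] [Module S N] [Module S E]
    [IsScalarTower R S M] [IsScalarTower R S N] [IsScalarTower R S E] [Module.Flat S E] (a : M →ₗ[S] N)
    (ha : Function.Injective a) : Function.Injective ((a.restrictScalars R).rTensor E) := by
  have hc : CompatibleSMul R S M E := CompatibleSMul.of_algebraMap_surjective M E hs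
  have hd : CompatibleSMul R S N E := CompatibleSMul.of_algebraMap_surjective N E hs
  let p : M ⊗[S] E →ₗ[R] M ⊗[R] E := mapOfCompatibleSMul R S R M E
  let q : N ⊗[S] E →ₗ[R] N ⊗[R] E := mapOfCompatibleSMul R S R N E
  let p' : M ⊗[R] E →ₗ[R] M ⊗[S] E := mapOfCompatibleSMul S R R M E
  let q' : N ⊗[R] E →ₗ[R] N ⊗[S] E := mapOfCompatibleSMul S R R N E
  have hp : ∀ t, p (p' t) = t := fun t => by
    induction t using TensorProduct.induction_on with
    | zero => simp
    | tmul m e => rfl
    | add x y hx hy => rw [map_add, map_add, hx, hy]
  have key : ∀ t, q' ((a.restrictScalars R).rTensor E t) = a.rTensor E (p' t) := fun t => by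
    induction t using TensorProduct.induction_on with
    | zero => simp
    | tmul m e => rfl
    | add x y hx hy => rw [map_add, map_add, hx, hy, ← map_add, ← map_add]
  intro x y hxy
  have h := Module.Flat.rTensor_preserves_injective_linearMap a ha
    ((key x).symm.trans ((congrArg q' hxy).trans (key y)))
  rw [← hp x, ← hp y, h]

theorem mono_whiskerRight_restrictScalars {R S : CommRingCat.{u}} (φ : R ⟶ S) (hφ : Function.Surjective φ.hom)
    {M N : ModuleCat.{u} S} (E : ModuleCat.{u} S) [Module.Flat S E] (a : M ⟶ N) [Mono a] :
    Mono ((ModuleCat.restrictScalars φ.hom).map a ▷ (ModuleCat.restrictScalars φ.hom).obj E) := by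
  rw [ModuleCat.mono_iff_injective]
  letI := φ.hom.toAlgebra
  letI : Module R M := Module.compHom M φ.hom
  letI : Module R N := Module.compHom N φ.hom
  letI : Module R E := Module.compHom E φ.hom
  have : IsScalarTower R S M := IsScalarTower.of_algebraMap_smul fun _ _ => rfl
  have : IsScalarTower R S N := IsScalarTower.of_algebraMap_smul fun _ _ => rfl
  have : IsScalarTower R S E := IsScalarTower.of_algebraMap_smul fun _ _ => rfl
  exact rTensor_injective_of_surjective (R := R) (S := S) (E := E) hφ a.hom
    ((ModuleCat.mono_iff_injective a).1 inferInstance)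

open OX

variable {X P : Scheme.{u}} (i : X ⟶ P) [IsClosedImmersion i]

theorem isIso_unit_push (M : X.Modules) :
    IsIso ((Scheme.Modules.pullbackPushforwardAdjunction i).unit.app ((Scheme.Modules.pushforward i).obj M)) := by
  refine (OX.isIso_iff _).2 fun x => (ConcreteCategory.isIso_iff_bijective _).2 ?_
  by_cases hx : x ∈ Set.range i
  · obtain ⟨y, rfl⟩ := hx
    have hb := QCoh.extendScalars_unit_bijective (i.stalkMap y).hom (i.stalkMap_surjective y)
      ((stalk (i y)).obj ((Scheme.Modules.pushforward i).obj M)) (fun r hr m => by
        apply (QCoh.pushStalkHom_bijective i y M i.isClosedEmbedding.isEmbedding.isInducing).1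
        rw [map_smul, map_zero]
        refine (ModuleCat.restrictScalars.smul_def (i.stalkMap y).hom r _).trans ?_
        rw [hr]
        exact zero_smul (X.presheaf.stalk y) _)
    rw [← QCoh.unit_stalk_comp i y] at hb
    have h2 : Function.Bijective ((QCoh.pushStalkHom i y _) ≫
          (ModuleCat.restrictScalars (i.stalkMap y).hom).map
            ((QCoh.stalkPullbackIso i y).hom.app ((Scheme.Modules.pushforward i).obj M))).hom :=
      ((ConcreteCategory.isIso_iff_bijective ((ModuleCat.restrictScalars (i.stalkMap y).hom).map
        ((QCoh.stalkPullbackIso i y).hom.app ((Scheme.Modules.pushforward i).obj M)))).1 inferInstance).comp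
        (QCoh.pushStalkHom_bijective i y _ i.isClosedEmbedding.isEmbedding.isInducing)
    exact (Function.Bijective.of_comp_iff' h2 _).1 hb
  · have h₁ := isZero_stalk_push i M x hx
    have h₂ := isZero_stalk_push i ((Scheme.Modules.pullback i).obj ((Scheme.Modules.pushforward i).obj M)) x hx
    exact (ConcreteCategory.isIso_iff_bijective _).1
      (⟨0, h₁.eq_of_src _ _, h₂.eq_of_src _ _⟩ :
        IsIso ((stalk x).map ((Scheme.Modules.pullbackPushforwardAdjunction i).unit.app
          ((Scheme.Modules.pushforward i).obj M))))

theorem reflectsIsos_pushforward : (Scheme.Modules.pushforward i).ReflectsIsomorphisms where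
  reflects {A B} g _ := by
    refine (OX.isIso_iff g).2 fun y => (ConcreteCategory.isIso_iff_bijective _).2 ?_
    have h : IsIso ((Scheme.Modules.pushforward i ⋙ stalk (i y)).map g) :=
      inferInstanceAs (IsIso ((stalk (i y)).map ((Scheme.Modules.pushforward i).map g)))
    have h' := (NatIso.isIso_map_iff (pushStalkIso i y) g).1 h
    exact (ConcreteCategory.isIso_iff_bijective
      ((ModuleCat.restrictScalars (i.stalkMap y).hom).map ((stalk y).map g))).1 h'

/-- Direct image along a closed immersion is fully faithful. -/
theorem full_faithful_pushforward :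
    (Scheme.Modules.pushforward i).Full ∧ (Scheme.Modules.pushforward i).Faithful := by
  let adj := Scheme.Modules.pullbackPushforwardAdjunction i
  have := reflectsIsos_pushforward i
  have : IsIso adj.counit := by
    have : ∀ M, IsIso (adj.counit.app M) := fun M => by
      have := isIso_unit_push i M
      have : IsIso ((Scheme.Modules.pushforward i).map (adj.counit.app M)) :=
        IsIso.of_isIso_fac_left (h := 𝟙 _) (adj.right_triangle_components M)
      exact isIso_of_reflects_iso (adj.counit.app M) (Scheme.Modules.pushforward i)
    exact NatIso.isIso_of_isIso_app _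
  exact ⟨adj.fullyFaithfulROfIsIsoCounit.full, adj.fullyFaithfulROfIsIsoCounit.faithful⟩

theorem mono_push_tensor {E : X.Modules} (hE : FlatMod.IsFlat E) {A B : X.Modules} (a : A ⟶ B) [Mono a] :
    Mono (((DCoh.tensorBi (X := P)).map ((Scheme.Modules.pushforward i).map a)).app
      ((Scheme.Modules.pushforward i).obj E)) := by
  refine (mono_iff _).2 fun x => ?_
  by_cases hx : x ∈ Set.range i
  · obtain ⟨y, rfl⟩ := hx
    let F := ModuleCat.restrictScalars (i.stalkMap y).hom
    have : Module.Flat (X.presheaf.stalk y) ((stalk y).obj E) := (flat_iff E).1 hE y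
    have ha : Mono ((stalk y).map a) := (mono_iff a).1 inferInstance y
    have h1 := mono_whiskerRight_restrictScalars (i.stalkMap y)
      (i.stalkMap_surjective y) ((stalk y).obj E) ((stalk y).map a)
    let eA := (pushStalkIso i y).app A
    let eB := (pushStalkIso i y).app B
    let eE := (pushStalkIso i y).app E
    have h2 : Mono ((stalk (i y)).map ((Scheme.Modules.pushforward i).map a) ▷
        (stalk (i y)).obj ((Scheme.Modules.pushforward i).obj E)) := by
      have hn : (stalk (i y)).map ((Scheme.Modules.pushforward i).map a) ≫ eB.hom =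
          eA.hom ≫ F.map ((stalk y).map a) := (pushStalkIso i y).hom.naturality a
      have e : (stalk (i y)).map ((Scheme.Modules.pushforward i).map a) ▷
            (stalk (i y)).obj ((Scheme.Modules.pushforward i).obj E) =
          (eA.hom ⊗ₘ eE.hom) ≫ (F.map ((stalk y).map a) ▷ F.obj ((stalk y).obj E)) ≫ (eB.inv ⊗ₘ eE.inv) := by
        rw [← tensorHom_id, ← tensorHom_id, tensorHom_comp_tensorHom, tensorHom_comp_tensorHom]
        refine congrArg₂ (fun u v => u ⊗ₘ v) ?_ ?_
        · exact ((Category.assoc _ _ _).symm.trans ((congrArg (· ≫ eB.inv) hn.symm).trans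
            ((Category.assoc _ _ _).trans ((congrArg (_ ≫ ·) eB.hom_inv_id).trans (Category.comp_id _))))).symm
        · exact ((congrArg (eE.hom ≫ ·) (Category.id_comp eE.inv)).trans eE.hom_inv_id).symm
      rw [e]
      have h3 : Mono (F.map ((stalk y).map a) ▷ F.obj ((stalk y).obj E)) := h1
      infer_instance
    exact ((MorphismProperty.monomorphisms _).arrow_mk_iso_iff
      (Arrow.isoMk (stalkTensorBiIso (i y) _ _) (stalkTensorBiIso (i y) _ _)
        (stalkTensorBiIso_natural₁ (i y) _ _).symm)).2 h2
  · have hz : IsZero ((stalk x).obj (((DCoh.tensorBi (X := P)).obj ((Scheme.Modules.pushforward i).obj A)).obj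
        ((Scheme.Modules.pushforward i).obj E))) :=
      IsZero.of_iso ((MonoidalCategory.tensorRight _).map_isZero (isZero_stalk_push i A x hx))
        (stalkTensorBiIso x _ _)
    exact ⟨fun g g' _ => hz.eq_of_tgt _ _⟩

/-- A module whose direct image is an internal Hom into an injective is injective. -/
theorem injective_of_push_iso {E J : X.Modules} (hE : FlatMod.IsFlat E) (Q : P.Modules) (hQ : Injective Q)
    [ModSite.HasSheafHom (O := P.sheaf) ((Scheme.Modules.pushforward i).obj E)]
    (e : (Scheme.Modules.pushforward i).obj J ≅
      (ModSite.sheafHom (O := P.sheaf) ((Scheme.Modules.pushforward i).obj E)).obj Q) : Injective J where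
  factors {A B} g a _ := by
    let adj := ModSite.sheafHomAdj (O := P.sheaf) ((Scheme.Modules.pushforward i).obj E)
    let ψ := (adj.homEquiv _ Q).symm ((Scheme.Modules.pushforward i).map g ≫ e.hom)
    have hm := mono_push_tensor i hE a
    obtain ⟨k, hk⟩ := hQ.factors ψ (((DCoh.tensorBi (X := P)).map ((Scheme.Modules.pushforward i).map a)).app
      ((Scheme.Modules.pushforward i).obj E))
    obtain ⟨hfull, hfaith⟩ := full_faithful_pushforward i
    refine ⟨(Scheme.Modules.pushforward i).preimage (adj.homEquiv _ Q k ≫ e.inv),
      (Scheme.Modules.pushforward i).map_injective ?_⟩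
    rw [Functor.map_comp, Functor.map_preimage, ← Category.assoc, Iso.comp_inv_eq,
      ← Adjunction.homEquiv_naturality_left]
    exact (congrArg (adj.homEquiv _ Q) hk).trans (Equiv.apply_symm_apply _ _)

end GrothLib.ClosedHom20
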